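import Groth.Agent.Deform.MaxNormal.Basic
import Groth.Agent.Deform.Borel.MaxUnip
import Groth.Agent.Deform.Borel.Tori
import Groth.Agent.Deform.Chev.SemiAbExt
import Groth.Agent.Deform.Chev.AlgClosed
import Groth.Agent.Deform.DiagMaps
import Groth.Agent.Deform.TorusAlg
import Groth.Agent.Deform.TorusIsogeny
import Groth.Agent.GrpSchLib.RedSubgroup
import Groth.Agent.GrpSchLib.PerfectSmooth
import Groth.Agent.GrpSchLib.UnitsConn
import Groth.Agent.GrpSchLib.HomFinite
import Groth.Prelude.Def_GmPts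
import Mathlib.CategoryTheory.Monoidal.Cartesian.Grp

/-!
# The largest torus quotient of a connected algebraic group
-/

set_option autoImplicit false
set_option linter.style.haveILetI false
set_option linter.unusedSectionVars false
set_option maxHeartbeats 1000000

universe u

open CategoryTheory CategoryTheory.Limits MonoidalCategory CartesianMonoidalCategory AlgebraicGeometry
open scoped MonObj

attribute [local instance] CategoryTheory.Hom.monoid CategoryTheory.Hom.group

noncomputable section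

namespace Groth.Agent.Deform.TorusQuot

open Chev (Pt pimg)
open GrpSchLib.Kunneth (Fn ev evPt)
open DSPtsLib (CoordM spU pt)
open GrpSchLib.SubgroupFactor (pull pull_single)

/-- A morphism to a diagonalisable group is trivial if all its characters are. -/
theorem hom_DS_eq_one {S : Scheme.{u}} {M : Type} [AddCommGroup M] {Y : Over S} (z : Y ⟶ Red.DS S M)
    (h : ∀ m : M, z ≫ Red.DSmap S (zmultiplesHom M m) = 1) : z = 1 := by
  refine Over.OverMorphism.ext (Scheme.Cover.hom_ext Y.left.affineCover _ _ fun i => ?_)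
  obtain ⟨B, hB⟩ : ∃ B : CommRingCat.{u}, Y.left.affineCover.X i = Spec B := ⟨_, rfl⟩
  set ι₀ := Y.left.affineCover.f i
  obtain ⟨io, hio⟩ : ∃ io : Spec B ⟶ Y.left, ι₀ = eqToHom hB ≫ io :=
    ⟨eqToHom hB.symm ≫ ι₀, by simp⟩
  rw [hio, Category.assoc, Category.assoc]
  congr 1
  let x : spU (io ≫ Y.hom) ⟶ Y := Over.homMk io rfl
  obtain ⟨c, hc⟩ := DSPtsLib.exists_eq_pt (io ≫ Y.hom) (x ≫ z)
  have h1 : pt (io ≫ Y.hom) c = 1 := DiagMaps.pt_eq_one _ c fun m => by
    have h2 : pt (io ≫ Y.hom) (pull (zmultiplesHom M (Multiplicative.toAdd m)) c) = 1 := by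
      rw [← DiagMaps.pt_DSmap, ← hc, Category.assoc, h, MonObj.comp_one]
    have h3 := DiagMaps.pt_single_eq_one _ h2 (Multiplicative.ofAdd (1 : ℤ))
    rw [pull_single] at h3
    simpa using h3
  exact congrArg (fun q : spU (io ≫ Y.hom) ⟶ Red.DS S M => q.left) ((hc.trans h1).trans (MonObj.comp_one x).symm)

/-- A morphism to a split torus is trivial if all its characters are. -/
theorem hom_split_eq_one {S : Scheme.{u}} {r : ℕ} {T Y : Over S} [GrpObj T] (hT : Red.IsSplitTorusWith (Fin r → ℤ) T)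
    (z : Y ⟶ T) (h : ∀ χ : T ⟶ Red.Gm S, IsMonHom χ → z ≫ χ = 1) : z = 1 := by
  obtain ⟨e⟩ := hT
  haveI : IsMonHom e.hom.hom.hom := e.hom.hom.isMonHom_hom
  haveI : IsIso e.hom.hom.hom := ((Grp.forget _).mapIso e).isIso_hom
  rw [← cancel_mono e.hom.hom.hom, MonObj.one_comp]
  refine hom_DS_eq_one _ fun m => ?_
  rw [Category.assoc]
  exact h _ inferInstance

variable {k : Type u} [Field k] [IsAlgClosed k]

/-- Normalised maps from a product to the multiplicative group are trivial. -/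
theorem rigid {X Y : Over (Spec (CommRingCat.of k))} [Smooth X.hom] [QuasiCompact X.hom] [ConnectedSpace X.left]
    [Smooth Y.hom] [QuasiCompact Y.hom] [ConnectedSpace Y.left] (x₀ : Pt X) (y₀ : Pt Y)
    (w : X ⊗ Y ⟶ Red.Gm (Spec (CommRingCat.of k)))
    (hX : lift (𝟙 X) (toUnit X ≫ y₀) ≫ w = 1) (hY : lift (toUnit Y ≫ x₀) (𝟙 Y) ≫ w = 1) : w = 1 := by
  haveI : Smooth (X ⊗ Y).hom := inferInstanceAs (Smooth (pullback.fst X.hom Y.hom ≫ X.hom))
  haveI : IsReduced (X ⊗ Y).left := GrpSchLib.isReduced_of_smooth_field (X ⊗ Y).hom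
  refine GmPts.gmFn_injective ?_
  show Red.gmFn w = Red.gmFn 1
  rw [GmPts.gmFn_one]
  refine GrpSchLib.UnitsConn.eq_one (GmPts.isUnit_gmFn w) x₀ y₀ ?_ ?_
  · exact (GmPts.gmFn_comp _ w).symm.trans (by rw [hX, GmPts.gmFn_one])
  · exact (GmPts.gmFn_comp _ w).symm.trans (by rw [hY, GmPts.gmFn_one])

/-- A subgroup of a product of two tori is a torus. -/
theorem isTorus_of_sep {I T₁ T₂ : Over (Spec (CommRingCat.of k))} [GrpObj I] [GrpObj T₁] [GrpObj T₂] [IsAffine I.left]
    [Smooth I.hom] [ConnectedSpace I.left] (h₁ : Red.IsTorus T₁) (h₂ : Red.IsTorus T₂) (a : I ⟶ T₁) [IsMonHom a]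
    (b : I ⟶ T₂) [IsMonHom b] (hsep : ∀ x : Pt I, x ≫ a = 1 → x ≫ b = 1 → x = 1) : Red.IsTorus I :=
  Borel.isTorus_of_noUnip fun U _ i _ hc hs hconn hU => by
    haveI := hc; haveI := hs; haveI := hconn
    haveI : IsAffineHom I.hom := isAffineHom_of_isAffine _
    haveI : IsAffine U.left := isAffine_of_isAffineHom i.left
    haveI := GrpSchLib.AntiAffine.isSeparated_grp U
    haveI : Mono i := MaxNormal.mono_of_closed i
    haveI : IsReduced U.left := GrpSchLib.isReduced_of_smooth_field U.hom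
    refine Borel.isTrivialGrp_of_pts fun x => ?_
    rw [← cancel_mono i, MonObj.one_comp]
    exact hsep _ (by rw [Category.assoc]; exact Borel.hom_torus_trivial hU h₁ (i ≫ a) x)
      (by rw [Category.assoc]; exact Borel.hom_torus_trivial hU h₂ (i ≫ b) x)

theorem isTorus_Gm : Red.IsTorus (Red.Gm (Spec (CommRingCat.of k))) := by
  obtain ⟨a⟩ := SplitQuot.nonempty_DS_congr (S := Spec (CommRingCat.of k)) (AddEquiv.piUnique (fun _ : Fin 1 => ℤ)).symm
  exact Deform.isTorus_of_split 1 ⟨a.symm⟩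

/-- The image of a connected group in a product of two tori is a torus. -/
theorem exists_image_pair {G T₁ T₂ : Over (Spec (CommRingCat.of k))} [GrpObj G] [Smooth G.hom] [QuasiCompact G.hom]
    [ConnectedSpace G.left] [GrpObj T₁] [GrpObj T₂] (h₁ : Red.IsTorus T₁) (h₂ : Red.IsTorus T₂)
    (a : G ⟶ T₁) [IsMonHom a] (b : G ⟶ T₂) [IsMonHom b] :
    ∃ (I : Over (Spec (CommRingCat.of k))) (_ : GrpObj I) (p : G ⟶ I) (c : I ⟶ T₁) (d : I ⟶ T₂),
      IsMonHom p ∧ Flat p.left ∧ Surjective p.left ∧ IsMonHom c ∧ IsMonHom d ∧ p ≫ c = a ∧ p ≫ d = b ∧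
        Red.IsTorus I := by
  obtain ⟨h₁a, h₁l, h₁s, h₁c⟩ := Deform.TorusBasic.props h₁
  obtain ⟨h₂a, h₂l, h₂s, h₂c⟩ := Deform.TorusBasic.props h₂
  haveI := h₁a; haveI := h₁l; haveI := h₁s; haveI := h₂a; haveI := h₂l; haveI := h₂s
  haveI : IsAffineHom T₁.hom := isAffineHom_of_isAffine _
  haveI : IsAffineHom T₂.hom := isAffineHom_of_isAffine _
  haveI : IsAffine (T₁ ⊗ T₂).left := inferInstanceAs (IsAffine (pullback T₁.hom T₂.hom))
  haveI : LocallyOfFiniteType (T₁ ⊗ T₂).hom :=
    inferInstanceAs (LocallyOfFiniteType (pullback.fst T₁.hom T₂.hom ≫ T₁.hom))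
  haveI : IsAffineHom (T₁ ⊗ T₂).hom := isAffineHom_of_isAffine _
  haveI : QuasiCompact (T₁ ⊗ T₂).hom := inferInstance
  obtain ⟨I, gI, p, i, hp, hi, hpi, hic, hpf, hps, hIl, hIq⟩ := GrpSchLib.ImageFactor.exists_image (lift a b)
  haveI := hp; haveI := hi; haveI := hic; haveI := hpf; haveI := hps; haveI := hIl; haveI := hIq
  haveI := MaxNormal.quasiCompact_hom p
  haveI : Smooth (p.left ≫ I.hom) := by rw [Over.w p]; infer_instance
  haveI : Smooth I.hom := GrpSchLib.smooth_of_flat_surjective p.left I.hom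
  haveI : ConnectedSpace I.left := p.left.surjective.connectedSpace p.left.continuous
  haveI : IsAffine I.left := isAffine_of_isAffineHom i.left
  haveI : Mono i := MaxNormal.mono_of_closed i
  refine ⟨I, gI, p, i ≫ fst T₁ T₂, i ≫ snd T₁ T₂, hp, hpf, hps, inferInstance, inferInstance,
    by rw [← Category.assoc, hpi, lift_fst], by rw [← Category.assoc, hpi, lift_snd],
    isTorus_of_sep h₁ h₂ (i ≫ fst T₁ T₂) (i ≫ snd T₁ T₂) fun x h1 h2 => ?_⟩
  rw [← cancel_mono i, MonObj.one_comp]
  exact CartesianMonoidalCategory.hom_ext _ _ (by rw [Category.assoc, h1, MonObj.one_comp])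
    (by rw [Category.assoc, h2, MonObj.one_comp])

/-- The smooth neutral part of a kernel. -/
structure IsNeutralKer {G T H : Over (Spec (CommRingCat.of k))} [GrpObj G] [GrpObj T] [GrpObj H] (q : G ⟶ T)
    (h : H ⟶ G) : Prop where
  hom : IsMonHom h
  closed : IsClosedImmersion h.left
  smooth : Smooth H.hom
  qc : QuasiCompact H.hom
  conn : ConnectedSpace H.left
  w : h ≫ q = 1
  univ : ∀ (Y : Over (Spec (CommRingCat.of k))) (_ : IsReduced Y.left) (_ : ConnectedSpace Y.left) (v : Y ⟶ G)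
    (y : Pt Y), y ≫ v = 1 → v ≫ q = 1 → ∃ z : Y ⟶ H, z ≫ h = v

theorem exists_neutralKer {G T : Over (Spec (CommRingCat.of k))} [GrpObj G] [LocallyOfFiniteType G.hom]
    [QuasiCompact G.hom] [GrpObj T] [LocallyOfFiniteType T.hom] (q : G ⟶ T) [IsMonHom q] :
    ∃ (H : Over (Spec (CommRingCat.of k))) (_ : GrpObj H) (h : H ⟶ G), IsNeutralKer q h := by
  haveI := GrpSchLib.AntiAffine.isSeparated_grp T
  obtain ⟨N, gN, n, hn, hnc, -, hk⟩ := GrpSchLib.exists_kernel q
  haveI := hn; haveI := hnc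
  haveI : LocallyOfFiniteType N.hom := by rw [← Over.w n]; infer_instance
  haveI : QuasiCompact N.hom := by rw [← Over.w n]; infer_instance
  obtain ⟨R, gR, r, hr, hrc, hRr, hrs, hRl, hRq⟩ := GrpSchLib.RedSubgroup.exists_redSubgroup N
  haveI := hr; haveI := hrc; haveI := hRr; haveI := hrs; haveI := hRl; haveI := hRq
  haveI : Smooth R.hom := GrpSchLib.smooth_of_perfectField_of_isReduced R
  obtain ⟨H, gH, c, hc, hcc, hco, hs, hqc, hconn, hrange⟩ := Chev.exists_neutral R
  haveI := hc; haveI := hcc; haveI := hco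
  haveI : Mono r := MaxNormal.mono_of_closed r
  haveI : Mono n := MaxNormal.mono_of_closed n
  refine ⟨H, gH, c ≫ r ≫ n, ⟨inferInstance, ?_, hs, hqc, hconn, ?_, fun Y _ _ v y hy hv => ?_⟩⟩
  · show IsClosedImmersion (c.left ≫ r.left ≫ n.left)
    infer_instance
  · rw [Category.assoc, Category.assoc, show n ≫ q = 1 from hk.w.trans Hom.one_def.symm, MonObj.comp_one,
      MonObj.comp_one]
  · let v₁ : Y ⟶ N := hk.lift v (toUnit Y) (hv.trans Hom.one_def)
    have hv₁ : v₁ ≫ n = v := hk.lift_fst _ _ _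
    obtain ⟨l, hl⟩ := H23.RedSub.exists_lift_closed v₁.left r.left (fun x _ => hrs.surj x)
    let v₂ : Y ⟶ R := Over.homMk l (by rw [← Over.w r, reassoc_of% hl, Over.w v₁])
    have hv₂ : v₂ ≫ r = v₁ := Over.OverMorphism.ext hl
    have hy₂ : y ≫ v₂ = η[R] := by
      rw [← cancel_mono r, ← cancel_mono n, IsMonHom.one_hom, IsMonHom.one_hom, Category.assoc, Category.assoc,
        ← Category.assoc v₂, hv₂, hv₁, hy, MonObj.one_eq_one]
    have hsub : Set.range v₂.left ⊆ Set.range c.left := by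
      rw [hrange]
      refine (isPreconnected_range v₂.left.continuous).subset_connectedComponent
        ⟨y.left (IsLocalRing.closedPoint k), ?_⟩
      rw [← Scheme.Hom.comp_apply, ← Over.comp_left, hy₂]
    refine ⟨Over.homMk (IsOpenImmersion.lift c.left v₂.left hsub) (by
      rw [← Over.w c, ← Category.assoc, IsOpenImmersion.lift_fac, Over.w v₂]), ?_⟩
    rw [show ∀ z : Y ⟶ H, z ≫ c ≫ r ≫ n = (z ≫ c) ≫ r ≫ n from fun z => (Category.assoc _ _ _).symm]
    rw [show (Over.homMk (IsOpenImmersion.lift c.left v₂.left hsub) _ : Y ⟶ H) ≫ c = v₂ from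
      Over.OverMorphism.ext (IsOpenImmersion.lift_fac _ _ _), ← Category.assoc, hv₂, hv₁]

variable {G : Over (Spec (CommRingCat.of k))} [GrpObj G]

/-- A homomorphism with trivial neutral kernel is finite. -/
theorem isFinite_of_neutralKer {T H : Over (Spec (CommRingCat.of k))} [GrpObj T] [GrpObj H]
    [LocallyOfFiniteType G.hom] [QuasiCompact G.hom] [LocallyOfFiniteType T.hom] (q : G ⟶ T) [IsMonHom q]
    (h : H ⟶ G) (hH : IsNeutralKer q h) (h1 : h = 1) : IsFinite q.left := by
  haveI := GrpSchLib.AntiAffine.isSeparated_grp T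
  haveI := GrpSchLib.AntiAffine.isSeparated_grp G
  haveI := MaxNormal.quasiCompact_hom q
  obtain ⟨N, gN, n, hn, hnc, -, hk⟩ := GrpSchLib.exists_kernel q
  haveI := hn; haveI := hnc
  haveI : LocallyOfFiniteType N.hom := by rw [← Over.w n]; infer_instance
  haveI : QuasiCompact N.hom := by rw [← Over.w n]; infer_instance
  obtain ⟨R, gR, r, hr, hrc, hRr, hrs, hRl, hRq⟩ := GrpSchLib.RedSubgroup.exists_redSubgroup N
  haveI := hr; haveI := hrc; haveI := hRr; haveI := hrs; haveI := hRl; haveI := hRq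
  haveI : Smooth R.hom := GrpSchLib.smooth_of_perfectField_of_isReduced R
  obtain ⟨V, gV, c, hc, hcc, hco, hs, hqc, hconn, hrange⟩ := Chev.exists_neutral R
  haveI := hc; haveI := hcc; haveI := hco; haveI := hs; haveI := hconn
  haveI : IsClosedImmersion (c ≫ r ≫ n).left := by
    show IsClosedImmersion (c.left ≫ r.left ≫ n.left)
    infer_instance
  haveI : Mono (c ≫ r ≫ n) := MaxNormal.mono_of_closed _
  have hV : (𝟙 V : V ⟶ V) = 1 := by
    obtain ⟨z, hz⟩ := hH.univ V (GrpSchLib.isReduced_of_smooth_field V.hom) hconn (c ≫ r ≫ n) η[V]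
      (by rw [IsMonHom.one_hom, MonObj.one_eq_one]) (by
        rw [Category.assoc, Category.assoc, show n ≫ q = 1 from hk.w.trans Hom.one_def.symm, MonObj.comp_one,
          MonObj.comp_one])
    rw [h1, MonObj.comp_one] at hz
    rw [← cancel_mono (c ≫ r ≫ n), Category.id_comp, MonObj.one_comp, ← hz]
  let e : R.left := η[R].left (IsLocalRing.closedPoint k)
  haveI : IsLocallyNoetherian R.left := LocallyOfFiniteType.isLocallyNoetherian R.hom
  have hopen : IsOpen ({e} : Set R.left) := by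
    have : connectedComponent e = {e} := by
      refine Set.eq_singleton_iff_unique_mem.mpr ⟨mem_connectedComponent, fun x hx => ?_⟩
      obtain ⟨v, rfl⟩ : x ∈ Set.range c.left := hrange ▸ hx
      have hv := congrArg (fun f : V ⟶ V => c.left (f.left v)) hV
      refine hv.trans ?_
      show c.left ((toUnit V ≫ η[V]).left v) = e
      rw [Over.comp_left, Scheme.Hom.comp_apply, ← Scheme.Hom.comp_apply η[V].left, ← Over.comp_left,
        IsMonHom.one_hom]
      exact congrArg η[R].left (Subsingleton.elim (α := PrimeSpectrum k) _ _)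
    exact this ▸ GrpSchLib.isOpen_connectedComponent e
  have hecl : IsClosed ({e} : Set R.left) := by
    haveI := GrpSchLib.AntiAffine.isSeparated_grp R
    haveI : IsClosedImmersion η[R].left := by
      haveI : IsClosedImmersion (η[R].left ≫ R.hom) := by rw [Over.w η[R]]; exact inferInstanceAs (IsClosedImmersion (𝟙 _))
      exact IsClosedImmersion.of_comp η[R].left R.hom
    have h2 := η[R].left.isClosedEmbedding.isClosedMap _ (isClosed_discrete (α := ↥(Spec (CommRingCat.of k))) {IsLocalRing.closedPoint k})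
    exact (Set.image_singleton (f := η[R].left)) ▸ h2
  haveI : DiscreteTopology R.left := by
    refine discreteTopology_iff_isOpen_singleton.mpr fun x => ?_
    haveI : JacobsonSpace R.left := LocallyOfFiniteType.jacobsonSpace R.hom
    have hclosed : ∀ g : R.left, IsClosed ({g} : Set R.left) → IsOpen ({g} : Set R.left) := fun g hg => by
      obtain ⟨a, ha⟩ := GrpSchLib.HomFinite.exists_trans (G := R) e g hecl hg
      let τ : R.left ≅ R.left := (Over.forget _).mapIso (GrpSchLib.HomFinite.trans a)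
      rw [← ha, ← Set.image_singleton]
      exact τ.hom.homeomorph.isOpenMap _ hopen
    refine hclosed x ?_
    by_contra hx
    let O : Set R.left := ⋃ g ∈ {g : R.left | IsClosed ({g} : Set R.left)}, {g}
    have hO : IsOpen O := isOpen_biUnion fun g hg => hclosed g hg
    obtain ⟨g, hgO, hg⟩ := nonempty_inter_closedPoints (Z := Oᶜ) ⟨x, fun hxO => hx (by
      obtain ⟨g, hg, hxg⟩ := Set.mem_iUnion₂.mp hxO
      rw [Set.mem_singleton_iff.mp hxg]; exact hg)⟩ hO.isClosed_compl.isLocallyClosed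
    exact hgO (Set.mem_iUnion₂.mpr ⟨g, hg, rfl⟩)
  haveI : DiscreteTopology N.left := by
    refine discreteTopology_iff_forall_isClosed.mpr fun s => ?_
    rw [← Set.image_preimage_eq s hrs.surj]
    exact r.left.isClosedEmbedding.isClosedMap _ (isClosed_discrete _)
  refine GrpSchLib.HomFinite.isFinite_of_discrete_ker q ?_
  exact @Homeomorph.discreteTopology _ _ _ _ ‹DiscreteTopology N.left› (hk.map (Over.forget _)).isoPullback.hom.homeomorph

variable [Smooth G.hom] [QuasiCompact G.hom] [ConnectedSpace G.left]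

/-- **The neutral part of the kernel of a maximal torus quotient.** -/
theorem exists_minimal :
    ∃ (H T : Over (Spec (CommRingCat.of k))) (_ : GrpObj H) (_ : GrpObj T) (h : H ⟶ G) (q : G ⟶ T),
      IsMonHom q ∧ Flat q.left ∧ Surjective q.left ∧ Red.IsTorus T ∧ IsNeutralKer q h ∧
        ∀ (χ : G ⟶ Red.Gm (Spec (CommRingCat.of k))), IsMonHom χ → h ≫ χ = 1 := by
  haveI : IsLocallyNoetherian G.left := LocallyOfFiniteType.isLocallyNoetherian G.hom
  haveI : CompactSpace G.left := QuasiCompact.compactSpace_of_compactSpace G.hom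
  haveI : IsNoetherian G.left := { }
  let C : Set (TopologicalSpace.Closeds G.left) := {Z | ∃ (H T : Over (Spec (CommRingCat.of k))) (_ : GrpObj H)
    (_ : GrpObj T) (h : H ⟶ G) (q : G ⟶ T), IsMonHom q ∧ Flat q.left ∧ Surjective q.left ∧ Red.IsTorus T ∧
      IsNeutralKer q h ∧ (Z : Set G.left) = Set.range h.left}
  have hne : C.Nonempty := by
    obtain ⟨I, gI, p, -, -, hp, hpf, hps, -, -, -, -, hI⟩ := exists_image_pair (G := G) (isTorus_Gm (k := k))
      (isTorus_Gm (k := k)) 1 1
    haveI := hp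
    haveI := (Deform.TorusBasic.props hI).2.1
    obtain ⟨H, gH, h, hh⟩ := exists_neutralKer p
    exact ⟨⟨_, (haveI := hh.closed; h.left.isClosedEmbedding.isClosed_range)⟩, H, I, gH, gI, h, p, hp, hpf, hps, hI, hh, rfl⟩
  obtain ⟨Z, ⟨H, T, gH, gT, h, q, hq, hqf, hqs, hT, hh, hZ⟩, hmin⟩ := wellFounded_lt.has_min C hne
  refine ⟨H, T, gH, gT, h, q, hq, hqf, hqs, hT, hh, fun χ hχ => ?_⟩
  haveI := hq; haveI := hχ; haveI := hh.hom; haveI := hh.closed; haveI := hh.smooth
  obtain ⟨I, gI, p, c, d, hp, hpf, hps, hc, hd, hpc, hpd, hI⟩ := exists_image_pair (G := G) hT (isTorus_Gm (k := k)) q χ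
  haveI := hp; haveI := hc; haveI := hd
  haveI := (Deform.TorusBasic.props hI).2.1
  obtain ⟨H', gH', h', hh'⟩ := exists_neutralKer p
  haveI := hh'.hom; haveI := hh'.closed; haveI := hh'.smooth; haveI := hh'.conn
  obtain ⟨z, hz⟩ := hh.univ H' (GrpSchLib.isReduced_of_smooth_field H'.hom) hh'.conn h' η[H']
    (by rw [IsMonHom.one_hom, MonObj.one_eq_one]) (by rw [← hpc, ← Category.assoc, hh'.w, MonObj.one_comp])
  let Z' : TopologicalSpace.Closeds G.left := ⟨Set.range h'.left, h'.left.isClosedEmbedding.isClosed_range⟩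
  have hle : Z' ≤ Z := by
    show Set.range h'.left ⊆ (Z : Set G.left)
    rw [hZ, ← hz, Over.comp_left]
    rintro _ ⟨x, rfl⟩
    exact ⟨z.left x, rfl⟩
  have heq : Z' = Z := eq_of_le_of_not_lt hle (hmin Z' ⟨H', I, gH', gI, h', p, hp, hpf, hps, hI, hh', rfl⟩)
  have hsub : Set.range h.left ⊆ Set.range h'.left := by
    rw [← hZ, ← congrArg (fun Z : TopologicalSpace.Closeds G.left => (Z : Set G.left)) heq]
    exact subset_rfl
  haveI : IsReduced H.left := GrpSchLib.isReduced_of_smooth_field H.hom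
  obtain ⟨l, hl⟩ := H23.RedSub.exists_lift_closed h.left h'.left hsub
  rw [← hpd, ← show (Over.homMk l (by rw [← Over.w h', reassoc_of% hl, Over.w h]) : H ⟶ H') ≫ h' = h from
    Over.OverMorphism.ext hl, Category.assoc, ← Category.assoc h', hh'.w, MonObj.one_comp, MonObj.comp_one]

end Groth.Agent.Deform.TorusQuot
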