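import Groth.Agent.Deform.TorusQuot.Basic

/-!
# The torus quotient through which all characters factor
-/

set_option autoImplicit false
set_option linter.style.haveILetI false
set_option linter.unusedSectionVars false
set_option maxHeartbeats 1000000

universe u

open CategoryTheory CategoryTheory.Limits MonoidalCategory CartesianMonoidalCategory AlgebraicGeometry
open scoped MonObj

attribute [local instance] CategoryTheory.Hom.monoid CategoryTheory.Hom.group

noncomputable section

namespace Groth.Agent.Deform.TorusQuot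

open Chev (Pt pimg)

variable {k : Type u} [Field k] [IsAlgClosed k] {G : Over (Spec (CommRingCat.of k))} [GrpObj G] [Smooth G.hom]
  [QuasiCompact G.hom] [ConnectedSpace G.left]

theorem connectedSpace_tensor_pt (H : Over (Spec (CommRingCat.of k))) [GrpObj H] [Smooth H.hom] [QuasiCompact H.hom]
    [ConnectedSpace H.left] : IsReduced (G ⊗ H).left ∧ ConnectedSpace (G ⊗ H).left := by
  haveI : Smooth (G ⊗ H).hom := inferInstanceAs (Smooth (pullback.fst G.hom H.hom ≫ G.hom))
  exact ⟨GrpSchLib.isReduced_of_smooth_field (G ⊗ H).hom, Chev.connectedSpace_tensor G H⟩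

/-- Conjugation restricted to a neutral kernel. -/
theorem exists_conj {T H : Over (Spec (CommRingCat.of k))} [GrpObj T] [GrpObj H] (q : G ⟶ T) [IsMonHom q]
    (h : H ⟶ G) (hh : IsNeutralKer q h) :
    ∃ z : G ⊗ H ⟶ H, z ≫ h = fst G H * (snd G H ≫ h) * (fst G H)⁻¹ := by
  haveI := hh.hom; haveI := hh.smooth; haveI := hh.qc; haveI := hh.conn
  obtain ⟨hr, hc⟩ := connectedSpace_tensor_pt (G := G) H
  refine hh.univ _ hr hc _ (lift η[G] η[H]) ?_ ?_
  · simp only [MonObj.comp_mul, GrpObj.comp_inv, lift_fst, lift_snd_assoc, IsMonHom.one_hom, MonObj.one_eq_one,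
      MonObj.one_comp, _root_.mul_one, inv_one]
  · simp only [MonObj.mul_comp, GrpObj.inv_comp, Category.assoc, hh.w, MonObj.comp_one, _root_.mul_one,
      mul_inv_cancel]

theorem isNormalHom {T H : Over (Spec (CommRingCat.of k))} [GrpObj T] [GrpObj H] (q : G ⟶ T) [IsMonHom q]
    (h : H ⟶ G) (hh : IsNeutralKer q h) : AlgGrp.IsNormalHom h := by
  obtain ⟨z, hz⟩ := exists_conj q h hh
  refine fun Y g n => ⟨lift g n ≫ z, ?_⟩
  rw [Category.assoc, hz]
  simp only [MonObj.comp_mul, GrpObj.comp_inv, lift_fst, lift_snd_assoc]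

theorem exists_main :
    ∃ (r : ℕ) (T : Over (Spec (CommRingCat.of k))) (_ : GrpObj T) (_ : Red.IsSplitTorusWith (Fin r → ℤ) T)
      (q : G ⟶ T) (_ : IsMonHom q) (H : Over (Spec (CommRingCat.of k))) (_ : GrpObj H) (h : H ⟶ G) (_ : IsMonHom h),
      Flat q.left ∧ Surjective q.left ∧ AlgGrp.IsKernel h q ∧ ConnectedSpace ↥H.left ∧
      (∀ χ : G ⟶ Red.Gm (Spec (CommRingCat.of k)), IsMonHom χ →
        ∃ χ' : T ⟶ Red.Gm (Spec (CommRingCat.of k)), IsMonHom χ' ∧ q ≫ χ' = χ) ∧
      (∀ ψ : H ⟶ Red.Gm (Spec (CommRingCat.of k)), IsMonHom ψ → ψ = 1) := by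
  obtain ⟨H, T, gH, gT, h, q, hq, hqf, hqs, hT, hh, hall⟩ := exists_minimal (G := G)
  haveI := hq; haveI := hh.hom; haveI := hh.closed; haveI := hh.smooth; haveI := hh.qc; haveI := hh.conn
  obtain ⟨hTa, hTl, hTs, -⟩ := Deform.TorusBasic.props hT
  haveI := hTa; haveI := hTl
  haveI : IsAffineHom T.hom := isAffineHom_of_isAffine _
  haveI : QuasiCompact T.hom := inferInstance
  obtain ⟨hGa, hGl, -, -⟩ := Deform.TorusBasic.props (isTorus_Gm (k := k))
  haveI := hGa; haveI := hGl
  haveI : IsAffineHom (Red.Gm (Spec (CommRingCat.of k))).hom := isAffineHom_of_isAffine _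
  haveI : Mono h := MaxNormal.mono_of_closed h
  obtain ⟨z, hz⟩ := exists_conj q h hh
  have hn := isNormalHom q h hh
  obtain ⟨Q, gQ, π, hπ, hπf, hπs, hQl, hQq, hπk⟩ := Chev.exists_quotient h hn
  haveI := hπ; haveI := hπf; haveI := hπs; haveI := hQl; haveI := hQq
  haveI := MaxNormal.quasiCompact_hom π
  haveI : Smooth (π.left ≫ Q.hom) := by rw [Over.w π]; infer_instance
  haveI : Smooth Q.hom := GrpSchLib.smooth_of_flat_surjective π.left Q.hom
  haveI : ConnectedSpace Q.left := π.left.surjective.connectedSpace π.left.continuous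
  haveI : Epi π.left := Flat.epi_of_flat_of_surjective _
  haveI : Epi π := (Over.forget _).epi_of_epi_map (inferInstanceAs (Epi π.left))
  obtain ⟨φ, hφ, hπφ⟩ := Chev.SemiAbExt.exists_desc π h hπk q hh.w
  haveI := hφ
  -- the neutral kernel on the quotient is trivial
  obtain ⟨W, gW, w, hw⟩ := exists_neutralKer φ
  haveI := hw.hom; haveI := hw.closed; haveI := hw.smooth; haveI := hw.conn; haveI := hw.qc
  have hw1 : w = 1 := by
    obtain ⟨E, gE, e, p, t, he, hec, hp, hpf, hps, hpq, hep, htm, -, hkt, -, -⟩ :=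
      MaxNormal.exists_preimage π h hπk w
    haveI := he; haveI := hec; haveI := hp; haveI := hpf; haveI := hps; haveI := hpq; haveI := htm
    haveI : QuasiCompact E.hom := by rw [← Over.w e]; infer_instance
    haveI : Smooth p.left := MaxNormal.smooth_of_kernel t p hkt
    haveI : Smooth E.hom := by rw [← Over.w p]; infer_instance
    haveI : ConnectedSpace E.left := MaxNormal.connectedSpace_ext t p hkt
    haveI : Epi p.left := Flat.epi_of_flat_of_surjective _
    haveI : Epi p := (Over.forget _).epi_of_epi_map (inferInstanceAs (Epi p.left))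
    obtain ⟨y, hy⟩ := hh.univ E (GrpSchLib.isReduced_of_smooth_field E.hom) inferInstance e η[E]
      (by rw [IsMonHom.one_hom, MonObj.one_eq_one])
      (by rw [← hπφ, ← Category.assoc, hep, Category.assoc, hw.w, MonObj.comp_one])
    rw [← cancel_epi p, MonObj.comp_one, ← hep, ← hy, Category.assoc,
      show h ≫ π = 1 from hπk.w.trans Hom.one_def.symm, MonObj.comp_one]
  haveI : IsFinite φ.left := isFinite_of_neutralKer φ w hw hw1
  haveI : IsAffine Q.left := isAffine_of_isAffineHom φ.left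
  haveI : IsAffineHom Q.hom := isAffineHom_of_isAffine _
  haveI := GrpSchLib.AntiAffine.isSeparated_grp Q
  have hQt : Red.IsTorus Q := Borel.isTorus_of_noUnip fun U _ i _ hc hs hconn hU => by
    haveI := hc; haveI := hs; haveI := hconn
    haveI : IsAffine U.left := isAffine_of_isAffineHom i.left
    haveI := GrpSchLib.AntiAffine.isSeparated_grp U
    haveI := GrpSchLib.AntiAffine.isSeparated_grp T
    haveI : Mono i := MaxNormal.mono_of_closed i
    haveI : IsReduced U.left := GrpSchLib.isReduced_of_smooth_field U.hom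
    have hiφ : i ≫ φ = 1 := Chev.SemiAbExt.ext_points _ _ fun x => by
      rw [MonObj.comp_one]; exact Borel.hom_torus_trivial hU hT (i ≫ φ) x
    obtain ⟨y, hy⟩ := hw.univ U inferInstance inferInstance i η[U] (by rw [IsMonHom.one_hom, MonObj.one_eq_one]) hiφ
    refine Borel.isTrivialGrp_of_pts fun x => ?_
    rw [← cancel_mono i, MonObj.one_comp, ← hy, hw1, MonObj.comp_one, MonObj.comp_one]
  obtain ⟨r, hr⟩ := Deform.exists_split Q hQt
  refine ⟨r, Q, gQ, hr, π, hπ, H, gH, h, hh.hom, hπf, hπs, hπk, hh.conn, fun χ hχ => ?_, fun ψ hψ => ?_⟩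
  · haveI := hχ
    exact Chev.SemiAbExt.exists_desc π h hπk χ (hall χ hχ)
  haveI := hψ
  haveI := GrpSchLib.AntiAffine.isSeparated_grp (Red.Gm (Spec (CommRingCat.of k)))
  -- a character of the kernel is invariant under conjugation
  have hx : lift (𝟙 G) (toUnit G ≫ (1 : Pt H)) ≫ z = 1 := by
    rw [← cancel_mono h, Category.assoc, hz]
    simp only [MonObj.comp_mul, GrpObj.comp_inv, lift_fst, lift_snd_assoc, MonObj.one_comp, MonObj.comp_one,
      _root_.mul_one, mul_inv_cancel, Category.assoc]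
  have hy : lift (toUnit H ≫ (1 : Pt G)) (𝟙 H) ≫ z = 𝟙 H := by
    rw [← cancel_mono h, Category.assoc, hz]
    simp only [MonObj.comp_mul, GrpObj.comp_inv, lift_fst, lift_snd_assoc, MonObj.comp_one, inv_one,
      _root_.mul_one, _root_.one_mul]
  have hinv : z ≫ ψ = snd G H ≫ ψ := by
    refine eq_of_mul_inv_eq_one (rigid (1 : Pt G) (1 : Pt H) ((z ≫ ψ) * (snd G H ≫ ψ)⁻¹) ?_ ?_)
    · rw [MonObj.comp_mul, GrpObj.comp_inv, ← Category.assoc, hx, lift_snd_assoc, MonObj.one_comp, Category.assoc,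
        MonObj.one_comp, MonObj.comp_one]
      simp
    · rw [MonObj.comp_mul, GrpObj.comp_inv, ← Category.assoc, hy, lift_snd_assoc, mul_inv_cancel]
  obtain ⟨K, gK, κ, hκ, hκc, -, hκk⟩ := GrpSchLib.exists_kernel ψ
  haveI := hκ; haveI := hκc
  haveI : Mono κ := MaxNormal.mono_of_closed κ
  haveI : IsClosedImmersion (κ ≫ h).left := by rw [Over.comp_left]; infer_instance
  have hnK : AlgGrp.IsNormalHom (κ ≫ h) := by
    intro Y g n
    have h1 : (lift g (n ≫ κ) ≫ z) ≫ ψ = 1 := by
      rw [Category.assoc, hinv, lift_snd_assoc, Category.assoc, show κ ≫ ψ = 1 from hκk.w.trans Hom.one_def.symm,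
        MonObj.comp_one]
    refine ⟨hκk.lift _ (toUnit Y) (h1.trans Hom.one_def), ?_⟩
    rw [IsPullback.lift_fst_assoc, Category.assoc, hz]
    simp only [MonObj.comp_mul, GrpObj.comp_inv, lift_fst, lift_snd_assoc, Category.assoc]
  obtain ⟨E, gE, π', hπ', hπ'f, hπ's, hEl, hEq, hπ'k⟩ := Chev.exists_quotient (κ ≫ h) hnK
  haveI := hπ'; haveI := hπ'f; haveI := hπ's; haveI := hEl; haveI := hEq
  haveI := MaxNormal.quasiCompact_hom π'
  obtain ⟨θ, hθ, hθe⟩ := Chev.SemiAbExt.exists_desc π' (κ ≫ h) hπ'k π (by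
    rw [Category.assoc, show h ≫ π = 1 from hπk.w.trans Hom.one_def.symm, MonObj.comp_one])
  haveI := hθ
  haveI : Surjective θ.left := by
    haveI : Surjective (π'.left ≫ θ.left) := by rw [← Over.comp_left, hθe]; infer_instance
    exact Surjective.of_comp π'.left θ.left
  haveI := MaxNormal.quasiCompact_hom θ
  haveI : IsReduced Q.left := GrpSchLib.isReduced_of_smooth_field Q.hom
  haveI : Flat θ.left := GrpSchLib.flat_of_surjective_hom θ
  obtain ⟨M, gM, m, hm, hmc, -, hmk⟩ := GrpSchLib.exists_kernel θ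
  haveI := hm; haveI := hmc
  haveI : Mono m := MaxNormal.mono_of_closed m
  haveI : LocallyOfFiniteType M.hom := by rw [← Over.w m]; infer_instance
  haveI : QuasiCompact M.hom := by rw [← Over.w m]; infer_instance
  haveI := GrpSchLib.AntiAffine.isSeparated_grp M
  obtain ⟨E₂, gE₂, e₂, p₂, t₂, he₂, he₂c, hp₂, hp₂f, hp₂s, hp₂q, hep₂, ht₂m, ht₂, hkt₂, hlift₂, -⟩ :=
    MaxNormal.exists_preimage π' (κ ≫ h) hπ'k m
  haveI := he₂; haveI := he₂c; haveI := hp₂; haveI := hp₂f; haveI := hp₂s; haveI := hp₂q; haveI := ht₂m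
  haveI : Mono e₂ := MaxNormal.mono_of_closed e₂
  have he₂π : e₂ ≫ π = 1 := by
    rw [← hθe, ← Category.assoc, hep₂, Category.assoc, show m ≫ θ = 1 from hmk.w.trans Hom.one_def.symm,
      MonObj.comp_one]
  let y : E₂ ⟶ H := hπk.lift e₂ (toUnit _) (he₂π.trans Hom.one_def)
  have hye : y ≫ h = e₂ := hπk.lift_fst _ _ _
  haveI : IsMonHom y := Deform.isMonHom_of_comp y h (i := e₂) hye
  let x₂ : H ⟶ M := hmk.lift (h ≫ π') (toUnit _) (by
    rw [Category.assoc, hθe]; exact hπk.w)
  obtain ⟨t, ht⟩ := hlift₂ h x₂ (hmk.lift_fst _ _ _).symm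
  have hyt : y ≫ t = 𝟙 E₂ := by rw [← cancel_mono e₂, Category.assoc, ht, hye, Category.id_comp]
  have hty : t ≫ y = 𝟙 H := by rw [← cancel_mono h, Category.assoc, hye, ht, Category.id_comp]
  haveI : IsIso y := ⟨t, hyt, hty⟩
  haveI : IsIso y.left := (Over.forget _).map_isIso y
  haveI : Smooth E₂.hom := by rw [← Over.w y]; infer_instance
  haveI : QuasiCompact E₂.hom := by rw [← Over.w y]; infer_instance
  haveI : ConnectedSpace E₂.left := (inv y.left).surjective.connectedSpace (inv y.left).continuous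
  haveI : Smooth (p₂.left ≫ M.hom) := by rw [Over.w p₂]; infer_instance
  haveI : Smooth M.hom := GrpSchLib.smooth_of_flat_surjective p₂.left M.hom
  haveI : ConnectedSpace M.left := p₂.left.surjective.connectedSpace p₂.left.continuous
  have ht₂y : t₂ ≫ y = κ := by rw [← cancel_mono h, Category.assoc, hye, ht₂]
  obtain ⟨φM, hφM, hpφ⟩ := Chev.SemiAbExt.exists_desc p₂ t₂ hkt₂ (y ≫ ψ) (by
    rw [← Category.assoc, ht₂y]; exact hκk.w.trans Hom.one_def.symm)
  haveI := hφM
  have hinj : ∀ x : Pt M, x ≫ φM = 1 → x = 1 := fun x hx => by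
    obtain ⟨x', rfl⟩ := Borel.exists_pt_over p₂ x
    have h1 : (x' ≫ y) ≫ ψ = 1 := by rw [Category.assoc, ← hpφ, ← Category.assoc, hx]
    let l : Pt K := hκk.lift (x' ≫ y) (toUnit _) (h1.trans Hom.one_def)
    have hl : l ≫ κ = x' ≫ y := hκk.lift_fst _ _ _
    have hx' : x' = l ≫ t₂ := by
      rw [← cancel_mono y, Category.assoc, ht₂y, hl]
    rw [hx', Category.assoc, show t₂ ≫ p₂ = 1 from hkt₂.w.trans Hom.one_def.symm, MonObj.comp_one]
  obtain ⟨V, gV, v, hv⟩ := exists_neutralKer φM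
  haveI := hv.smooth
  have hv1 : v = 1 := Chev.SemiAbExt.ext_points _ _ fun x => by
    rw [MonObj.comp_one]
    exact hinj _ (by rw [Category.assoc, hv.w, MonObj.comp_one])
  haveI : IsFinite φM.left := isFinite_of_neutralKer φM v hv hv1
  haveI : IsAffine M.left := isAffine_of_isAffineHom φM.left
  have hMt : Red.IsTorus M := isTorus_of_sep isTorus_Gm isTorus_Gm φM φM fun x hx _ => hinj x hx
  have hEt : Red.IsTorus E := Chev.SemiAbExt.isTorus_extension θ m hmk hMt hQt
  obtain ⟨r', hr'⟩ := Deform.exists_split E hEt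
  have hkill : h ≫ π' = 1 := hom_split_eq_one hr' _ fun χ hχ => by
    haveI := hχ
    rw [Category.assoc]
    exact hall (π' ≫ χ) inferInstance
  let u : H ⟶ K := hπ'k.lift h (toUnit _) (hkill.trans Hom.one_def)
  have hu : u ≫ κ = 𝟙 H := by
    rw [← cancel_mono h, Category.assoc, Category.id_comp]
    exact hπ'k.lift_fst _ _ _
  rw [← Category.id_comp ψ, ← hu, Category.assoc, show κ ≫ ψ = 1 from hκk.w.trans Hom.one_def.symm, MonObj.comp_one]

end Groth.Agent.Deform.TorusQuot
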